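import Cfsg.Agent.H713.B0R.Tool

/-!
# The engine with one prime (helper655)

`|P| = p`, `e = |N(P) : C(P)|` even, `e ≠ p - 1`: the principal `p`-block has `e - 1` nontrivial non-exceptional
characters, an odd number. If the Galois group acts on them through a `2`-group, one of them is rational.

* `sum_sq_ne` : an exceptional character is not constant on `P#`;
* `rowZ_of_single` : the row.
-/

set_option autoImplicit false

open Subgroup
open scoped ComplexConjugate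

namespace Cfsg.Agent.H655.BR

open Cfsg Cfsg.Agent.Characters.Core Cfsg.Agent.Blocks Cfsg.Agent.SmallSimple Cfsg.Agent.Characters
  Cfsg.Agent.H602.B0R Cfsg.Agent.H145.BR Cfsg.Agent.H713.B0R

universe u

variable {G : Type u} [Group G] [Finite G]

omit [Finite G] in
/-- a sum of `e` nontrivial characters of a group of order `p`, `1 < e < p - 1`, is not `± 1` -/
theorem sum_ne {Q : Type u} [Group Q] {p : ℕ} (hp : p.Prime) (hQ : Nat.card Q = p) {S : Finset (Q →* ℂˣ)}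
    {e : ℕ} (hS : S.card = e) (he1 : e ≠ 1) (hep : e ≠ p - 1) {ε : ℤ} (hε : ε = 1 ∨ ε = -1)
    (h : ∀ x : Q, x ≠ 1 → ∑ l ∈ S, ((l x : ℂˣ) : ℂ) = ε) : False := by
  classical
  have hfin : Finite Q := Nat.finite_of_card_ne_zero (by rw [hQ]; exact hp.ne_zero)
  have := Fintype.ofFinite Q
  have h1 : ∑ x : Q, (∑ l ∈ S, ((l x : ℂˣ) : ℂ)) * conj (∑ l ∈ S, ((l x : ℂˣ) : ℂ)) = (p : ℂ) * e := by
    have h2 : ∀ x : Q, (∑ l ∈ S, ((l x : ℂˣ) : ℂ)) * conj (∑ l ∈ S, ((l x : ℂˣ) : ℂ)) =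
        ∑ l ∈ S, ∑ l' ∈ S, ((l x : ℂˣ) : ℂ) * conj ((l' x : ℂˣ) : ℂ) := by
      intro x
      rw [map_sum, Finset.sum_mul_sum]
    simp only [h2]
    rw [Finset.sum_comm]
    have h3 : ∀ l ∈ S, ∑ x : Q, ∑ l' ∈ S, ((l x : ℂˣ) : ℂ) * conj ((l' x : ℂˣ) : ℂ) = (p : ℂ) := by
      intro l hl
      rw [Finset.sum_comm]
      simp only [PrimeDual.sum_hom_mul_conj]
      rw [Finset.sum_ite_eq, if_pos hl, hQ]
    rw [Finset.sum_congr rfl h3, Finset.sum_const, hS, nsmul_eq_mul, mul_comm]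
  rw [← Finset.add_sum_erase _ _ (Finset.mem_univ (1 : Q))] at h1
  have h4 : ∑ l ∈ S, ((l (1 : Q) : ℂˣ) : ℂ) = e := by
    have h5 : ∀ l ∈ S, ((l (1 : Q) : ℂˣ) : ℂ) = 1 := fun l _ => by rw [map_one, Units.val_one]
    rw [Finset.sum_congr rfl h5, Finset.sum_const, hS, nsmul_eq_mul, mul_one]
  have h6 : ∑ x ∈ Finset.univ.erase (1 : Q), (∑ l ∈ S, ((l x : ℂˣ) : ℂ)) * conj (∑ l ∈ S, ((l x : ℂˣ) : ℂ)) =
      (p : ℂ) - 1 := by
    have h7 : ∀ x ∈ Finset.univ.erase (1 : Q), (∑ l ∈ S, ((l x : ℂˣ) : ℂ)) * conj (∑ l ∈ S, ((l x : ℂˣ) : ℂ)) = 1 := by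
      intro x hx
      rw [h x (Finset.ne_of_mem_erase hx), map_intCast]
      rcases hε with h8 | h8 <;> rw [h8] <;> norm_num
    rw [Finset.sum_congr rfl h7, Finset.sum_const, nsmul_eq_mul, mul_one, Finset.card_erase_of_mem (Finset.mem_univ _),
      Finset.card_univ, ← Nat.card_eq_fintype_card, hQ, Nat.cast_sub hp.one_lt.le, Nat.cast_one]
  rw [h4, h6, map_natCast] at h1
  have h9 : (e : ℤ) * e + (p - 1) = p * e := by exact_mod_cast h1
  have h10 : ((e : ℤ) - 1) * (p - 1 - e) = 0 := by linear_combination (-1 : ℤ) * h9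
  rcases mul_eq_zero.1 h10 with h11 | h11
  · exact he1 (by omega)
  · have := hp.one_lt
    exact hep (by omega)

/-- the engine with one prime: a rational character in the principal block -/
theorem exists_of_single {p : ℕ} [hp : Fact p.Prime] (hp2 : p ≠ 2) {M : Ideal AlgInt} (hM : IsPModular p M)
    (P : Sylow p G) (hP : Nat.card P = p) {e : ℕ}
    (he : (centralizer (P : Set G)).relIndex (normalizer (P : Set G)) = e) (heven : Even e) (hep : e ≠ p - 1)
    (hfrob : Frob p M G) (hg : ∀ g : G, Gen0 (orderOf g) p p) :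
    ∃ χ : IrrCharacter G, χ ∈ principalBlock M G ∧ (χ : G → ℂ) ≠ (fun _ => 1) ∧ NE p (χ : G → ℂ) ∧
      ∀ g : G, ∃ z : ℤ, (χ : G → ℂ) g = z := by
  classical
  have := finite_irr (G := G)
  have he1 : e ≠ 1 := by rintro rfl; exact absurd heven (by decide)
  have hdvd : e ∣ p - 1 := he ▸ SmallSimple.SylowPrimeCount.relIndex_dvd_pred (P := (P : Subgroup G)) hp.out hP
  obtain ⟨t, ht⟩ := hdvd
  obtain ⟨NEs, X, ε, d, S, hB, h1, h2, h3, h4, h5, h6, h7, h8, h9, h10⟩ :=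
    SmallSimple.TheoremB.theoremB p hp2 M hM P hP e t he ht.symm
  have hone : ¬ p ∣ orderOf (1 : G) := by
    rw [orderOf_one]; exact fun h => hp.out.one_lt.ne' (Nat.dvd_one.1 h)
  -- the members of `NEs` are the non-exceptional characters
  have hNE : ∀ χ ∈ NEs, NE p (χ : G → ℂ) := by
    intro χ h
    refine ne_of_const P hP hM ((hB χ).2 (Or.inl h)) (h4 χ h) fun x hx hx1 => ?_
    have := h7 χ h x hx hx1 1 (one_mem _) hone
    rwa [mul_one] at this
  have hNE' : ∀ χ : IrrCharacter G, χ ∈ principalBlock M G → NE p (χ : G → ℂ) → χ ∈ NEs := by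
    intro χ hχ hn
    rcases (hB χ).1 hχ with h | h
    · exact h
    · exfalso
      obtain ⟨k1, -, k3⟩ := h8 χ h
      obtain ⟨δ, hδ, hn⟩ := hn
      have hQ : Nat.card (P : Subgroup G) = p := hP
      refine sum_ne (Q := (P : Subgroup G)) hp.out hQ k1 he1 hep (ε := δ * d) ?_ fun x hx => ?_
      · rcases hδ with h | h <;> rcases h5 with h' | h' <;> rw [h, h'] <;> norm_num
      · have h11 := k3 x hx 1 (one_mem _) hone
        rw [mul_one] at h11
        have h12 : orderOf (x : G) = p := CyclicOrtho.orderOf_eq P hP x.2 (fun h => hx (Subtype.ext h))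
        rw [hn (x : G) (by rw [h12])] at h11
        have h13 : (d : ℂ) * d = 1 := by rcases h5 with h | h <;> rw [h] <;> norm_num
        push_cast
        linear_combination (-(∑ l ∈ S χ, ((l x : ℂˣ) : ℂ))) * h13 - (d : ℂ) * h11
  obtain ⟨χ₁, hχ₁, hχ₁1, -⟩ := h6
  have hχ₁' : (χ₁ : G → ℂ) = fun _ => 1 := hχ₁1
  obtain ⟨χ, ⟨hχ1, hχ2⟩, hχ3⟩ := core ({χ | χ ∈ NEs ∧ (χ : G → ℂ) ≠ fun _ => 1} : Set (IrrCharacter G)) (by
      have e1 : Nat.card ({χ | χ ∈ NEs ∧ (χ : G → ℂ) ≠ fun _ => 1} : Set (IrrCharacter G)) = (NEs.erase χ₁).card := by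
        have : Fintype ({χ | χ ∈ NEs ∧ (χ : G → ℂ) ≠ fun _ => 1} : Set (IrrCharacter G)) := Fintype.ofFinite _
        rw [Nat.card_eq_fintype_card, ← Set.toFinset_card]
        congr 1
        ext χ
        rw [Set.mem_toFinset, Finset.mem_erase]
        constructor
        · rintro ⟨a1, a2⟩
          exact ⟨fun h => a2 (by rw [h, hχ₁']), a1⟩
        · rintro ⟨a1, a2⟩
          exact ⟨a2, fun h => a1 (Subtype.ext (by rw [hχ₁']; exact h))⟩
      rw [e1, Finset.card_erase_of_mem hχ₁, h2]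
      have he0 : 0 < e := by rw [← h2]; exact Finset.card_pos.2 ⟨χ₁, hχ₁⟩
      obtain ⟨m, rfl⟩ := heven
      exact ⟨m - 1, by omega⟩)
    (fun χ hχ k hk => ⟨hNE' _ (tw_mem hk ((hB χ).2 (Or.inl hχ.1))) ((hNE χ hχ.1).tw hk), fun a1 => hχ.2 (by
      funext g
      obtain ⟨m, hm⟩ := exists_pow_eq_self_of_coprime (x := g) (n := k)
        (hk.coprime_dvd_right (orderOf_dvd_natCard g))
      have a2 := congrFun a1 (g ^ m)
      rw [tw_apply, ← pow_mul, mul_comm, pow_mul, hm] at a2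
      exact a2)⟩)
    (fun χ hχ k hk => fix_of_local (fun g k hk => by
      have : NeZero (orderOf g) := ⟨(orderOf_pos g).ne'⟩
      obtain ⟨a1, a2⟩ := local_cond P hP hfrob ((hB χ).2 (Or.inl hχ.1)) (hNE χ hχ.1) g
      have hk' : k.Coprime (orderOf g) := hk.coprime_dvd_right (orderOf_dvd_natCard g)
      obtain ⟨c, hc⟩ := hg g (locStab χ g) a1 a2 a1 a2 (ZMod.unitOfCoprime k hk')
      refine ⟨c, ?_⟩
      rw [mem_locStab] at hc
      rw [← hc]
      exact congrArg _ (pow_eq_of_modEq dvd_rfl ((val_pow_modEq _ _).trans ((val_unitOfCoprime hk').pow _)).symm)) hk)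
  exact ⟨χ, (hB χ).2 (Or.inl hχ1), hχ2, hNE χ hχ1, exists_int hχ3⟩

/-- **the row, one prime** -/
theorem rowZ_of_single {p : ℕ} (hp : p.Prime) (hp2 : p ≠ 2) (hpG : p ∣ Nat.card G) (hpG2 : ¬ p ^ 2 ∣ Nat.card G)
    {e : ℕ} (he : ∀ P : Sylow p G, (centralizer (P : Set G)).relIndex (normalizer (P : Set G)) = e) (heven : Even e)
    (hep : e ≠ p - 1) (fp : FrobAt p G) (hg : ∀ g : G, Gen0 (orderOf g) p p) : RowZ p G := by
  have := Fact.mk hp
  obtain ⟨P⟩ : Nonempty (Sylow p G) := inferInstance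
  have hP := H852.RatB.card_sylow_of_not_sq hpG hpG2 P
  refine H852.RatB.rowZ_of_ratB hp2 P hP fun M hM => ?_
  obtain ⟨χ, h1, h2, -, h3⟩ := exists_of_single hp2 hM P hP (he P) heven hep (fp M hM) hg
  refine ⟨χ, h1, h2, fun g => ?_⟩
  obtain ⟨k, hk⟩ := h3 g
  exact ⟨(k : ℚ), by rw [hk]; push_cast; rfl⟩

end Cfsg.Agent.H655.BR
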