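import Cfsg.Agent.H655.BR.Single
import Cfsg.Agent.H494.B0R.Inst

/-!
# Local data for the engine (helper655)

`p` divides `|G|` exactly once, `y` of order `p`.

* `exists_zpowers` : every Sylow `p`-subgroup is generated by a conjugate of `y`;
* `even_relIndex` : `y` real: `|N(P) : C(P)|` is even;
* `not_mul_dvd` : `C(y)` a `p`-group: no element of order divisible by `p q`;
* `relIndex_modEq`, `relIndex_eq` : `|N(P) : C(P)|` from `|C(P)|`.
-/

set_option autoImplicit false

open Subgroup

namespace Cfsg.Agent.H655.BR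

open Cfsg

universe u

variable {G : Type u} [Group G] [Finite G] {p : ℕ} [hp : Fact p.Prime]

theorem exists_zpowers (hpG2 : ¬ p ^ 2 ∣ Nat.card G) {y : G} (hy : orderOf y = p) (P : Sylow p G) :
    ∃ h : G, (P : Subgroup G) = zpowers (h * y * h⁻¹) := by
  have hz : Nat.card (zpowers y) = p := by rw [Nat.card_zpowers, hy]
  have hidx : ¬ p ∣ (zpowers y).index := by
    intro h
    apply hpG2
    have h1 := (zpowers y).card_mul_index
    rw [hz] at h1
    rw [← h1, pow_two]
    exact Nat.mul_dvd_mul_left p h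
  have hpg : IsPGroup p (zpowers y) := IsPGroup.of_card (n := 1) (by rw [hz, pow_one])
  obtain ⟨h, hh⟩ := MulAction.exists_smul_eq G (hpg.toSylow hidx) P
  refine ⟨h, ?_⟩
  rw [← hh]
  ext x
  rw [Sylow.coe_subgroup_smul]
  constructor
  · intro hx
    obtain ⟨z, hz, rfl⟩ := Subgroup.mem_map.1 hx
    obtain ⟨n, rfl⟩ := mem_zpowers_iff.1 (show z ∈ zpowers y from hz)
    refine mem_zpowers_iff.2 ⟨n, ?_⟩
    rw [conj_zpow]
    rfl
  · intro hx
    obtain ⟨n, rfl⟩ := mem_zpowers_iff.1 hx
    refine Subgroup.mem_map.2 ⟨y ^ n, (show y ^ n ∈ zpowers y from zpow_mem_zpowers y n), ?_⟩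
    rw [conj_zpow]
    rfl

theorem even_relIndex (hp2 : p ≠ 2) (hpG2 : ¬ p ^ 2 ∣ Nat.card G) {y : G} (hy : orderOf y = p) (hr : IsConj y y⁻¹)
    (P : Sylow p G) : Even ((centralizer (P : Set G)).relIndex (normalizer (P : Set G))) := by
  obtain ⟨h, hh⟩ := exists_zpowers hpG2 hy P
  have h1 : IsConj (h * y * h⁻¹) (h * y * h⁻¹)⁻¹ := by
    have h2 : IsConj y (h * y * h⁻¹) := isConj_iff.2 ⟨h, rfl⟩
    have h3 : (h * y * h⁻¹)⁻¹ = h * y⁻¹ * h⁻¹ := by group
    rw [h3]
    exact h2.symm.trans (hr.trans (isConj_iff.2 ⟨h, rfl⟩))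
  have h2 : orderOf (h * y * h⁻¹) = p := by
    have h3 : orderOf (MulAut.conj h y) = orderOf y := orderOf_injective (MulAut.conj h).toMonoidHom (MulAut.conj h).injective y
    rw [← hy, ← h3]
    rfl
  have h3 := H707.Block.even_relIndex_of_real hp2 h2 h1
  rw [← hh] at h3
  exact even_iff_two_dvd.2 h3

theorem not_mul_dvd (hpG2 : ¬ p ^ 2 ∣ Nat.card G) {y : G} (hy : orderOf y = p) (hC : IsPGroup p (centralizer ({y} : Set G)))
    {q : ℕ} (hq : q.Prime) (hqp : q ≠ p) (g : G) : ¬ p * q ∣ orderOf g := by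
  intro hd
  have h0 : orderOf g ≠ 0 := (orderOf_pos g).ne'
  have ha : orderOf (g ^ (orderOf g / p)) = p := orderOf_pow_orderOf_div h0 ((Dvd.intro _ rfl).trans hd)
  have hb : orderOf (g ^ (orderOf g / q)) = q := orderOf_pow_orderOf_div h0 ((Dvd.intro_left _ rfl).trans hd)
  have hab : Commute (g ^ (orderOf g / p)) (g ^ (orderOf g / q)) := (Commute.refl g).pow_pow _ _
  set a := g ^ (orderOf g / p) with hadef
  set b := g ^ (orderOf g / q) with hbdef
  -- `⟨a⟩` is a Sylow subgroup
  have hz : Nat.card (zpowers a) = p := by rw [Nat.card_zpowers, ha]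
  have hidx : ¬ p ∣ (zpowers a).index := by
    intro h
    apply hpG2
    have h1 := (zpowers a).card_mul_index
    rw [hz] at h1
    rw [← h1, pow_two]
    exact Nat.mul_dvd_mul_left p h
  have hpg : IsPGroup p (zpowers a) := IsPGroup.of_card (n := 1) (by rw [hz, pow_one])
  obtain ⟨h, hh⟩ := exists_zpowers hpG2 hy (hpg.toSylow hidx)
  have h1 : h * y * h⁻¹ ∈ zpowers a := by
    have h2 : h * y * h⁻¹ ∈ zpowers (h * y * h⁻¹) := mem_zpowers _
    rw [← hh] at h2
    exact h2
  obtain ⟨n, hn⟩ := mem_zpowers_iff.1 h1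
  have h2 : Commute (h * y * h⁻¹) b := by rw [← hn]; exact hab.zpow_left n
  have h3 : h⁻¹ * b * h ∈ centralizer ({y} : Set G) := by
    rw [mem_centralizer_singleton_iff]
    have h4 : h * y * h⁻¹ * b = b * (h * y * h⁻¹) := h2
    calc h⁻¹ * b * h * y = h⁻¹ * (b * (h * y * h⁻¹)) * h := by group
      _ = h⁻¹ * (h * y * h⁻¹ * b) * h := by rw [h4]
      _ = y * (h⁻¹ * b * h) := by group
  obtain ⟨k, hk⟩ := hC ⟨_, h3⟩
  have h5 : (h⁻¹ * b * h) ^ p ^ k = 1 := congrArg Subtype.val hk
  have h6 : b ^ p ^ k = 1 := by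
    have h7 : (h⁻¹ * b * h) ^ p ^ k = h⁻¹ * b ^ p ^ k * h := by
      have := conj_pow (i := p ^ k) (a := h⁻¹) (b := b)
      rw [inv_inv] at this
      exact this
    rw [h7] at h5
    have h8 : b ^ p ^ k = h * (h⁻¹ * b ^ p ^ k * h) * h⁻¹ := by group
    rw [h8, h5]
    group
  have h7 : q ∣ p ^ k := by rw [← hb]; exact orderOf_dvd_of_pow_eq_one h6
  exact hqp ((Nat.prime_dvd_prime_iff_eq hq hp.out).1 (hq.dvd_of_dvd_pow h7))

omit [Finite G] hp in
theorem isPGroup_of_card {y : G} (h : Nat.card (centralizer ({y} : Set G)) = p) :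
    IsPGroup p (centralizer ({y} : Set G)) := IsPGroup.of_card (n := 1) (by rw [h, pow_one])

theorem card_centralizer_sylow (hpG2 : ¬ p ^ 2 ∣ Nat.card G) {y : G} (hy : orderOf y = p) (P : Sylow p G) :
    Nat.card (centralizer (P : Set G)) = Nat.card (centralizer ({y} : Set G)) := by
  obtain ⟨h, hh⟩ := exists_zpowers hpG2 hy P
  have h1 : centralizer (P : Set G) = centralizer ({h * y * h⁻¹} : Set G) := by
    have h2 : ((P : Subgroup G) : Set G) = (zpowers (h * y * h⁻¹) : Set G) := congrArg _ hh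
    show centralizer ((P : Subgroup G) : Set G) = _
    rw [h2]
    ext c
    rw [mem_centralizer_iff, mem_centralizer_singleton_iff]
    constructor
    · intro h3
      exact (h3 _ (mem_zpowers _)).symm
    · intro h3 z hz
      obtain ⟨n, rfl⟩ := mem_zpowers_iff.1 hz
      exact ((show Commute c (h * y * h⁻¹) from h3).symm.zpow_left n).eq
  rw [h1]
  refine Nat.card_congr ⟨fun c => ⟨h⁻¹ * c.1 * h, ?_⟩, fun c => ⟨h * c.1 * h⁻¹, ?_⟩, fun c => ?_, fun c => ?_⟩
  · have h3 := mem_centralizer_singleton_iff.1 c.2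
    rw [mem_centralizer_singleton_iff]
    calc h⁻¹ * c.1 * h * y = h⁻¹ * (c.1 * (h * y * h⁻¹)) * h := by group
      _ = h⁻¹ * (h * y * h⁻¹ * c.1) * h := by rw [h3]
      _ = _ := by group
  · have h3 := mem_centralizer_singleton_iff.1 c.2
    rw [mem_centralizer_singleton_iff]
    calc h * c.1 * h⁻¹ * (h * y * h⁻¹) = h * (c.1 * y) * h⁻¹ := by group
      _ = h * (y * c.1) * h⁻¹ := by rw [h3]
      _ = _ := by group
  · refine Subtype.ext ?_
    show h * (h⁻¹ * c.1 * h) * h⁻¹ = c.1
    group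
  · refine Subtype.ext ?_
    show h⁻¹ * (h * c.1 * h⁻¹) * h = c.1
    group

/-- Sylow's theorem determines the inertial index modulo `p` -/
theorem relIndex_modEq (P : Sylow p G) {c n : ℕ} (hc : Nat.card (centralizer (P : Set G)) = c)
    (hn : Nat.card G = c * n) : (centralizer (P : Set G)).relIndex (normalizer (P : Set G)) ≡ n [MOD p] := by
  have hle : centralizer (P : Set G) ≤ normalizer (P : Set G) := centralizer_le_normalizer _
  have h1 := Subgroup.index_mul_card ((centralizer (P : Set G)).subgroupOf (normalizer (P : Set G)))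
  rw [Nat.card_congr (Subgroup.subgroupOfEquivOfLe hle).toEquiv, hc] at h1
  have h1' : (centralizer (P : Set G)).relIndex (normalizer (P : Set G)) * c = Nat.card (normalizer (P : Set G)) := h1
  have h2 := (normalizer (P : Set G)).card_mul_index
  have h3 : (normalizer (P : Set G)).index ≡ 1 [MOD p] := by
    have h4 := card_sylow_modEq_one p G
    rwa [P.card_eq_index_normalizer] at h4
  have hc0 : 0 < c := by rw [← hc]; exact Nat.card_pos
  rw [← h1', hn] at h2
  have h5 : (centralizer (P : Set G)).relIndex (normalizer (P : Set G)) * (normalizer (P : Set G)).index = n := by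
    apply Nat.eq_of_mul_eq_mul_left hc0
    rw [← h2]
    ring
  have h6 := h3.mul_left ((centralizer (P : Set G)).relIndex (normalizer (P : Set G)))
  rw [mul_one, h5] at h6
  exact h6.symm

theorem relIndex_eq (hpG2 : ¬ p ^ 2 ∣ Nat.card G) {y : G} (hy : orderOf y = p) {c n e : ℕ}
    (hc : Nat.card (centralizer ({y} : Set G)) = c) (hn : Nat.card G = c * n) (he : n % p = e) (P : Sylow p G) :
    (centralizer (P : Set G)).relIndex (normalizer (P : Set G)) = e := by
  have hpG : p ∣ Nat.card G := by rw [← hy]; exact orderOf_dvd_natCard y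
  have hP := H852.RatB.card_sylow_of_not_sq hpG hpG2 P
  have h1 := relIndex_modEq P ((card_centralizer_sylow hpG2 hy P).trans hc) hn
  have h2 := SmallSimple.BurnsideNC.relIndex_dvd_of_card_eq_prime P hP
  have h3 := Nat.le_of_dvd (by have := hp.out.two_le; omega) h2
  have h4 : (centralizer (P : Set G)).relIndex (normalizer (P : Set G)) % p = n % p := h1
  rw [Nat.mod_eq_of_lt (by have := hp.out.two_le; omega), he] at h4
  exact h4

end Cfsg.Agent.H655.BR
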